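import Cfsg.Agent.H68.S8.Str

/-!
# Local conditions on a normal subgroup (helper68, S4908)

`K ⊴ Y`, `p`, `q` primes, `q ∤ |K|`, `q ^ b ∥ |Y|`, `p ^ a ∥ |K|`.
* `exists_w` : an element `w` of order `q` with `p ^ j ∣ |C(w)|`, `p ^ a ≡ p ^ j mod q`;
* `exists_t` : if `p ^ a ≢ 1 mod q`, an element `t` of order `p` with `q ^ b ∣ |C(t)|`.
-/

set_option autoImplicit false

namespace Cfsg.Agent.H68.S8

open Subgroup Cfsg.Agent.H940.Eng

universe u

theorem modEq_inf {Y : Type u} [Group Y] [Finite Y] {q : ℕ} (hq : q.Prime) {R Q : Subgroup Y} (hR : IsPGroup q R)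
    (hRQ : R ≤ normalizer (Q : Set Y)) : Nat.card Q ≡ Nat.card ↥(Q ⊓ centralizer (R : Set Y)) [MOD q] := by
  have := Fact.mk hq
  let _ : MulAction R Q := {
    smul := fun a z => ⟨(a : Y) * z * (a : Y)⁻¹, (mem_normalizer_iff.1 (hRQ a.2) z).1 z.2⟩
    one_smul := fun z => Subtype.ext (by show (1 : Y) * z * (1 : Y)⁻¹ = z; simp)
    mul_smul := fun a b z => Subtype.ext (by
      show ((a : Y) * b) * z * ((a : Y) * b)⁻¹ = a * (b * z * (b : Y)⁻¹) * (a : Y)⁻¹
      group) }
  have hsm : ∀ (a : R) (z : Q), ((a • z : Q) : Y) = (a : Y) * z * (a : Y)⁻¹ := fun _ _ => rfl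
  have hmod : Nat.card Q ≡ Nat.card (MulAction.fixedPoints R Q) [MOD q] := hR.card_modEq_card_fixedPoints Q
  have hDc : Nat.card (MulAction.fixedPoints R Q) = Nat.card ↥(Q ⊓ centralizer (R : Set Y)) := by
    refine Nat.card_congr ?_
    refine ⟨fun z => ⟨((z : Q) : Y), mem_inf.2 ⟨(z : Q).2, ?_⟩⟩, fun z => ⟨⟨(z : Y), (mem_inf.1 z.2).1⟩, ?_⟩,
      fun z => rfl, fun z => rfl⟩
    · show ((z : Q) : Y) ∈ centralizer (R : Set Y)
      rw [mem_centralizer_iff]
      intro a ha
      have h3 := congrArg Subtype.val (z.2 ⟨a, ha⟩)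
      rw [hsm] at h3
      have h4 : a * ((z : Q) : Y) * a⁻¹ = ((z : Q) : Y) := h3
      calc a * ((z : Q) : Y) = a * ((z : Q) : Y) * a⁻¹ * a := by group
        _ = ((z : Q) : Y) * a := by rw [h4]
    · intro a
      apply Subtype.ext
      rw [hsm]
      have h3 := (mem_centralizer_iff.1 (mem_inf.1 z.2).2) (a : Y) a.2
      show (a : Y) * (z : Y) * (a : Y)⁻¹ = z
      rw [h3]
      group
  rw [hDc] at hmod
  exact hmod

/-- an invariant Sylow subgroup -/
theorem exists_pair {Y : Type u} [Group Y] [Finite Y] {q : ℕ} (hq : q.Prime) {K : Subgroup Y} [K.Normal]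
    (hqK : ¬ q ∣ Nat.card K) {p : ℕ} (hp : p.Prime) :
    ∃ Q R : Subgroup Y, Nat.card Q = p ^ (Nat.card K).factorization p ∧ Nat.card R = q ^ (Nat.card Y).factorization q ∧
      R ≤ normalizer (Q : Set Y) ∧ Q ≤ K := by
  have := Fact.mk hq
  have := Fact.mk hp
  let Q0 : Sylow p K := default
  set N := normalizer (((Q0 : Subgroup K).map K.subtype : Subgroup Y) : Set Y) with hN
  have hfr : N ⊔ K = ⊤ := Sylow.normalizer_sup_eq_top Q0
  have h3 := card_sup_mul_card_inf K N
  rw [sup_comm, hfr, card_top] at h3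
  have h4 : q ^ (Nat.card Y).factorization q ∣ Nat.card N := by
    have h5 : q ^ (Nat.card Y).factorization q ∣ Nat.card K * Nat.card N := by
      rw [← h3]
      exact Dvd.dvd.mul_right (Nat.ordProj_dvd _ _) _
    refine Nat.Coprime.dvd_of_dvd_mul_left ?_ h5
    exact Nat.Coprime.pow_left _ ((Nat.Prime.coprime_iff_not_dvd hq).2 hqK)
  have h5 : (Nat.card N).factorization q = (Nat.card Y).factorization q := by
    apply le_antisymm
    · exact (Nat.factorization_le_iff_dvd Nat.card_pos.ne' Nat.card_pos.ne').2 (card_subgroup_dvd_card N) q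
    · exact (hq.pow_dvd_iff_le_factorization Nat.card_pos.ne').1 h4
  let R0 : Sylow q N := default
  refine ⟨(Q0 : Subgroup K).map K.subtype, (R0 : Subgroup N).map N.subtype, ?_, ?_, map_subtype_le _, map_subtype_le _⟩
  · rw [card_map_of_injective K.subtype_injective]
    exact Q0.card_eq_multiplicity
  · rw [card_map_of_injective N.subtype_injective, ← h5]
    exact R0.card_eq_multiplicity

theorem exists_w {Y : Type u} [Group Y] [Finite Y] {q : ℕ} (hq : q.Prime) {K : Subgroup Y} [K.Normal]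
    (hqK : ¬ q ∣ Nat.card K) (hqY : q ∣ Nat.card Y) {p : ℕ} (hp : p.Prime) :
    ∃ (w : Y) (j : ℕ), orderOf w = q ∧ p ^ j ∣ Nat.card (centralizer ({w} : Set Y)) ∧ j ≤ (Nat.card K).factorization p ∧
      p ^ (Nat.card K).factorization p ≡ p ^ j [MOD q] := by
  have := Fact.mk hq
  have := Fact.mk hp
  obtain ⟨Q, R, hQ, hR, hRQ, hQK⟩ := exists_pair hq hqK hp
  have hqR : q ∣ Nat.card R := by
    rw [hR]
    exact dvd_pow_self q (Nat.one_le_iff_ne_zero.1 ((hq.dvd_iff_one_le_factorization Nat.card_pos.ne').1 hqY))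
  obtain ⟨x, hx⟩ := exists_prime_orderOf_dvd_card' q hqR
  have hxo : orderOf (x : Y) = q := by rw [Subgroup.orderOf_coe, hx]
  have hz : IsPGroup q (zpowers (x : Y)) := IsPGroup.of_card (n := 1) (by rw [Nat.card_zpowers, hxo, pow_one])
  have hm := modEq_inf hq hz (Q := Q) (by rw [zpowers_le]; exact hRQ x.2)
  have hDp : IsPGroup p ↥(Q ⊓ centralizer (zpowers (x : Y) : Set Y)) := by
    have h3 : IsPGroup p Q := IsPGroup.of_card hQ
    exact h3.to_le inf_le_left
  obtain ⟨j, hj⟩ := IsPGroup.iff_card.1 hDp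
  refine ⟨x, j, hxo, ?_, ?_, ?_⟩
  · rw [← hj]
    apply card_dvd_of_le
    intro z hz'
    have h4 := (mem_inf.1 hz').2
    rw [mem_centralizer_iff] at h4
    exact mem_centralizer_singleton_iff.2 (h4 _ (mem_zpowers _)).symm
  · have h4 : p ^ j ∣ p ^ (Nat.card K).factorization p := by
      rw [← hj, ← hQ]
      exact card_dvd_of_le inf_le_left
    exact (Nat.pow_dvd_pow_iff_le_right hp.one_lt).1 h4
  · rw [← hQ, ← hj]
    exact hm

theorem exists_t {Y : Type u} [Group Y] [Finite Y] {q : ℕ} (hq : q.Prime) {K : Subgroup Y} [K.Normal]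
    (hqK : ¬ q ∣ Nat.card K) {p : ℕ} (hp : p.Prime)
    (hne : ¬ p ^ (Nat.card K).factorization p ≡ 1 [MOD q]) :
    ∃ t : Y, orderOf t = p ∧ q ^ (Nat.card Y).factorization q ∣ Nat.card (centralizer ({t} : Set Y)) := by
  have := Fact.mk hq
  have := Fact.mk hp
  obtain ⟨Q, R, hQ, hR, hRQ, hQK⟩ := exists_pair hq hqK hp
  have hm := modEq_inf hq (IsPGroup.of_card hR) hRQ
  have hDp : IsPGroup p ↥(Q ⊓ centralizer (R : Set Y)) := by
    have h3 : IsPGroup p Q := IsPGroup.of_card hQ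
    exact h3.to_le inf_le_left
  obtain ⟨j, hj⟩ := IsPGroup.iff_card.1 hDp
  have hj0 : j ≠ 0 := by
    rintro rfl
    rw [pow_zero] at hj
    rw [hQ, hj] at hm
    exact hne hm
  obtain ⟨x, hx⟩ := exists_prime_orderOf_dvd_card' (G := ↥(Q ⊓ centralizer (R : Set Y))) p (by
    rw [hj]
    exact dvd_pow_self p hj0)
  refine ⟨x, by rw [Subgroup.orderOf_coe, hx], ?_⟩
  rw [← hR]
  apply card_dvd_of_le
  intro z hz
  have h4 := (mem_inf.1 x.2).2
  rw [mem_centralizer_iff] at h4
  exact mem_centralizer_singleton_iff.2 (h4 z hz)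

/-- centralizers in a subgroup -/
theorem card_cent_sub {G : Type u} [Group G] [Finite G] {T : Subgroup G} (w : T) :
    Nat.card (centralizer ({w} : Set T)) ∣ Nat.card (centralizer ({(w : G)} : Set G)) := by
  rw [← card_map_of_injective (K := centralizer ({w} : Set T)) T.subtype_injective]
  apply card_dvd_of_le
  rintro _ ⟨a, ha, rfl⟩
  exact mem_centralizer_singleton_iff.2 (congrArg Subtype.val (mem_centralizer_singleton_iff.1 ha))

end Cfsg.Agent.H68.S8
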